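import Groth.Agent.TateLoc.K809.QuotFin
import Groth.Agent.AbSch.K451.Prod
import Groth.Agent.Divis.AmpleFin
import Groth.Agent.Sga3C.DimTop
import Groth.Agent.S0083
import Groth.Agent.S0115
import Groth.Agent.S0346
import Groth.Prelude.Def_AgPol
import Groth.Prelude.Def_LCI2
import Mathlib.AlgebraicGeometry.Morphisms.Proper

/-!
# Quotients of abelian schemes by finite locally free subgroups

* `exists_affine_of_finite` : a finite set of points in one fibre of `f` lies in an affine open if `X` carries an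
  `f`-ample module;
* `exists_quot_of` : the quotient `q : G ⟶ M` of a commutative group scheme by a finite locally free subgroup whose
  orbits lie in affine opens;
* `isAbSch_of` : if `q : A ⟶ M` is a finite locally free surjective homomorphism of commutative `S`-groups and `A` is an
  abelian scheme then `M` is an abelian scheme;
* `exists_quot` : quotients of abelian schemes with a relatively ample module.
-/

set_option autoImplicit false
universe u

open CategoryTheory CategoryTheory.Limits MonoidalCategory CartesianMonoidalCategory MonObj GrpObj AlgebraicGeometry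

namespace K515.QuotAb

open Groth.Agent.Sga3.H775.ActGrpd K809.QuotFin

section finite

theorem exists_affine_of_finite {X S : Scheme.{u}} (f : X ⟶ S) (L : X.Modules)
    (hL : RelAmple.IsRelAmple f L) (s : S) (T : Set X) (hT : T.Finite) (hTs : ∀ x ∈ T, f x = s) :
    ∃ V : X.Opens, IsAffineOpen V ∧ T ⊆ V := by
  obtain ⟨U, hU, hs, -⟩ := exists_isAffineOpen_mem_and_subset (X := S) (U := ⊤) (x := s) trivial
  have h1 := hL.2 ⟨U, hU⟩
  let W : X.Opens := f ⁻¹ᵁ U
  have hinj : Function.Injective W.ι := W.ι.injective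
  obtain ⟨m, t, h2, -, h3⟩ := Groth.Agent.Divis.AmpleFin.exists_genLocus_of_finite h1
    (W.ι ⁻¹' T) (hT.preimage hinj.injOn) ⊤ (fun _ _ => trivial)
  refine ⟨W.ι ''ᵁ _, h3.image_of_isOpenImmersion W.ι, fun x hx => ?_⟩
  have hxW : x ∈ W := by
    change f x ∈ U
    rw [hTs x hx]
    exact hs
  exact ⟨⟨x, hxW⟩, h2 hx, rfl⟩

end finite

variable {S : Scheme.{u}}

section quot

variable {I G : Over S} [GrpObj I] [GrpObj G] (u : I ⟶ G) [IsMonHom u]

/-- The quotient of a commutative group scheme by a finite locally free subgroup whose orbits lie in affine opens. -/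
theorem exists_quot_of [IsCommMonObj G] [Mono u] (hI : Mor2.IsFinLocFree I.hom)
    (hb : ∀ x : G.left, ∃ V : G.left.Opens, IsAffineOpen V ∧
      (act u).act.left.base '' ((snd I G).left.base ⁻¹' {x}) ⊆ (V : Set G.left)) :
    ∃ (M : Over S) (_ : GrpObj M) (_ : IsCommMonObj M) (q : G ⟶ M) (_ : IsMonHom q), Mor2.IsFinLocFree q.left ∧
      Surjective q.left ∧ AlgGrp.IsKernel u q ∧
      IsPullback (act u).act.left (snd I G).left q.left q.left := by
  have hsnd := isFinLocFree_snd (G := G) hI
  have i := hsnd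
  obtain ⟨i1, i2, i3⟩ := i
  have hmono := mono_j u
  have hb : ∀ x : (actGrpd (act u)).U, ∃ V : (actGrpd (act u)).U.Opens, IsAffineOpen V ∧
      (actGrpd (act u)).t.base '' ((actGrpd (act u)).s.base ⁻¹' {x}) ⊆ (V : Set (actGrpd (act u)).U) := hb
  obtain ⟨Y, p, w, ⟨hc⟩, h1, h2, -, -, -, haff⟩ := Groth.Agent.S4085.result S (actGrpd (act u)) hsnd hb
  obtain ⟨hp, hf⟩ := Groth.Agent.S4086.result S (actGrpd (act u)) hsnd hb Y p w hc
  let r : Y ⟶ S := Cofork.IsColimit.desc hc (actGrpd (act u)).pU ((actGrpd (act u)).t_over.trans (actGrpd (act u)).s_over.symm)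
  have hr : p ≫ r = (actGrpd (act u)).pU := Cofork.IsColimit.π_desc' hc _ _
  let q : G ⟶ Over.mk r := Over.homMk p hr
  have j0 : IsFinite q.left := hf.1
  have j1 : Flat q.left := hf.2.1
  have j2 : LocallyOfFinitePresentation q.left := hf.2.2
  have j3 : Surjective q.left := h2
  have h4 : IsPullback (act u).act (snd I G) q q :=
    IsPullback.of_map (Over.forget S) (Over.OverMorphism.ext w) hp
  have key : ∀ (T : Over S) (i : T ⟶ I) (x : T ⟶ G), ((i ≫ u) * x) ≫ q = x ≫ q := by
    intro T i x
    rw [← lift_act, Category.assoc, h4.w, lift_snd_assoc]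
  have key2 : ∀ (T : Over S) (x y : T ⟶ G), x ≫ q = y ≫ q → ∃ i : T ⟶ I, x = (i ≫ u) * y := by
    intro T x y hxy
    refine ⟨h4.lift x y hxy ≫ fst I G, ?_⟩
    have e1 := h4.lift_fst x y hxy
    have e2 := h4.lift_snd x y hxy
    rw [act_eq, lift_act, e2] at e1
    exact e1.symm
  obtain ⟨g, hg, hcm⟩ := exists_grpObj q (by
    intro T x x' y y' hx hy
    obtain ⟨i, rfl⟩ := key2 T x x' hx
    obtain ⟨j, rfl⟩ := key2 T y y' hy
    have : (i ≫ u) * x' * ((j ≫ u) * y') = ((i * j) ≫ u) * (x' * y') := by
      rw [MonObj.mul_comp, _root_.mul_mul_mul_comm]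
    rw [this, key])
  refine ⟨_, g, hcm ‹_›, q, hg, hf, h2, ?_, hp⟩
  have w0 : u ≫ q = toUnit I ≫ η[Over.mk r] := by
    have := key I (𝟙 I) 1
    rw [_root_.mul_one, Category.id_comp, MonObj.one_comp] at this
    exact this
  have ex : ∀ s : PullbackCone q η[Over.mk r], ∃ i : s.pt ⟶ I, i ≫ u = s.fst := fun s => by
    obtain ⟨i, hi⟩ := key2 s.pt s.fst 1 (by
      rw [s.condition, toUnit_unique s.snd (toUnit _), MonObj.one_comp]; rfl)
    exact ⟨i, by rw [hi, _root_.mul_one]⟩
  choose l hl using ex
  exact ⟨⟨w0⟩, ⟨PullbackCone.IsLimit.mk _ l hl (fun s => toUnit_unique _ _)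
    (fun s m hm _ => by rw [← cancel_mono u, hm, hl])⟩⟩

end quot

section abSch

variable {A M : Over S} (q : A ⟶ M)

/-- The base change of a geometric fibre. -/
theorem geomConn_of [GeometricallyConnected A.hom] [Surjective q.left] : GeometricallyConnected M.hom := by
  refine ⟨fun K _ y Z a b h => ?_⟩
  let P := pullback q.left a
  have hP : IsPullback (pullback.fst q.left a) (pullback.snd q.left a) q.left a := IsPullback.of_hasPullback _ _
  have h1 : IsPullback (pullback.fst q.left a) (pullback.snd q.left a ≫ b) (q.left ≫ M.hom) y := hP.paste_vert h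
  rw [Over.w] at h1
  have h2 : ConnectedSpace P := GeometricallyConnected.geometrically_connectedSpace (f := A.hom) y _ _ h1
  have h3 : Surjective (pullback.snd q.left a) := inferInstance
  exact h3.surj.connectedSpace (pullback.snd q.left a).continuous

theorem dim_fiber [IsFinite q.left] [Surjective q.left] (s : S) :
    topologicalKrullDim (A.hom.fiber s) = topologicalKrullDim (M.hom.fiber s) := by
  let P := pullback q.left (M.hom.fiberι s)
  have hP : IsPullback (pullback.fst q.left (M.hom.fiberι s)) (pullback.snd q.left (M.hom.fiberι s)) q.left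
    (M.hom.fiberι s) := IsPullback.of_hasPullback _ _
  have h0 : IsPullback (M.hom.fiberι s) (M.hom.fiberToSpecResidueField s) M.hom (S.fromSpecResidueField s) :=
    IsPullback.of_hasPullback _ _
  have h1 := hP.paste_vert h0
  rw [Over.w] at h1
  have h2 : IsPullback (A.hom.fiberι s) (A.hom.fiberToSpecResidueField s) A.hom (S.fromSpecResidueField s) :=
    IsPullback.of_hasPullback _ _
  let e : P ≅ A.hom.fiber s := h1.isoIsPullback _ _ h2
  have h3 := Groth.Agent.Sga3C.DimTop.topologicalKrullDim_eq_of_isIntegralHom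
    (pullback.snd q.left (M.hom.fiberι s))
  rw [← h3]
  exact (IsHomeomorph.topologicalKrullDim_eq _ (Scheme.homeoOfIso e).isHomeomorph).symm

variable [GrpObj M]

/-- The target of a finite locally free surjective morphism from an abelian scheme with closed kernel is an
abelian scheme. -/
theorem isAbSch_of {g : ℕ} (hA : AgPol.IsAbSch A g) (hq : Mor2.IsFinLocFree q.left) [Surjective q.left]
    {K : Over S} (i : K ⟶ A) [IsClosedImmersion i.left] (hi : AlgGrp.IsKernel i q) : AgPol.IsAbSch M g := by
  obtain ⟨h1, h2, h3⟩ := hq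
  have hsm := hA.smooth
  have hpr := hA.proper
  have hgc := hA.geomConnected
  have e : A.hom = q.left ≫ M.hom := (Over.w q).symm
  have hMs : Smooth M.hom := by
    have : Smooth (q.left ≫ M.hom) := by rw [← e]; exact hsm
    exact Groth.Agent.S0115.result q.left M.hom
  have huc : UniversallyClosed M.hom := by
    have : UniversallyClosed (q.left ≫ M.hom) := by rw [← e]; infer_instance
    exact UniversallyClosed.of_comp_surjective q.left M.hom
  have hunit : IsClosedImmersion η[M].left := by
    have h4 : (@Surjective ⊓ @Flat ⊓ @QuasiCompact : MorphismProperty Scheme.{u}) q.left :=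
      ⟨⟨‹_›, h2⟩, inferInstance⟩
    have h5 := IsPullback.map (Over.forget S) hi
    have h6 := Groth.Agent.S0083.result.{u}
    exact MorphismProperty.of_isPullback_of_descendsAlong (P := @IsClosedImmersion)
      (Q := @Surjective ⊓ @Flat ⊓ @QuasiCompact) h5 h4 ‹_›
  have hsep : IsSeparated M.hom := (Groth.Agent.S0346.result S M).1.mpr hunit
  refine ⟨hMs, ?_, geomConn_of q, fun s => ?_⟩
  · exact { toIsSeparated := hsep, toUniversallyClosed := huc, toLocallyOfFiniteType := inferInstance }
  · rw [← hA.fibreDim s]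
    exact (dim_fiber q s).symm

end abSch

section main

variable {A K : Over S} [GrpObj A] [GrpObj K] (i : K ⟶ A) [IsMonHom i]

/-- orbits of a finite locally free subgroup lie in affine opens -/
theorem exists_affine_orbit (hK : Mor2.IsFinLocFree K.hom) (L : A.left.Modules)
    (hL : RelAmple.IsRelAmple A.hom L) (x : A.left) : ∃ V : A.left.Opens, IsAffineOpen V ∧
      (act i).act.left.base '' ((snd K A).left.base ⁻¹' {x}) ⊆ (V : Set A.left) := by
  obtain ⟨h1, h2, h3⟩ := isFinLocFree_snd (G := A) hK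
  refine exists_affine_of_finite A.hom L hL (A.hom x) _
    (((snd K A).left.finite_preimage_singleton x).image _) ?_
  rintro _ ⟨r, hr, rfl⟩
  change (snd K A).left r = x at hr
  rw [← hr, ← Scheme.Hom.comp_apply, ← Scheme.Hom.comp_apply, Over.w, Over.w]

/-- **Quotients of abelian schemes by finite locally free subgroups.** -/
theorem exists_quot [IsCommMonObj A] {g : ℕ} (hA : AgPol.IsAbSch A g) (L : A.left.Modules)
    (hL : RelAmple.IsRelAmple A.hom L) [IsClosedImmersion i.left] [IsFinite K.hom] [Flat K.hom]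
    [LocallyOfFinitePresentation K.hom] :
    ∃ (M : Over S) (_ : GrpObj M) (_ : IsCommMonObj M) (q : A ⟶ M) (_ : IsMonHom q),
      IsFinite q.left ∧ Flat q.left ∧ LocallyOfFinitePresentation q.left ∧ Surjective q.left ∧
      AgPol.IsAbSch M g ∧ AlgGrp.IsKernel i q ∧
      (IsProper M.hom ∧ Smooth M.hom ∧ GeometricallyIntegral M.hom) ∧
      (∀ {T : Over S} (a b : T ⟶ A), a ≫ q = b ≫ q ↔ ∃ c : T ⟶ K, c ≫ i = a * b⁻¹) ∧
      (∀ {Z : Over S} (f : A ⟶ Z), (∀ (T : Over S) (c : T ⟶ K) (a : T ⟶ A), ((c ≫ i) * a) ≫ f = a ≫ f) →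
        ∃! h : M ⟶ Z, q ≫ h = f) := by
  have hK : Mor2.IsFinLocFree K.hom := ⟨‹_›, ‹_›, ‹_›⟩
  have hmono : Mono i := ⟨fun a b h => by
    ext1
    have h5 : a.left ≫ i.left = b.left ≫ i.left := congrArg CommaMorphism.left h
    exact (cancel_mono i.left).mp h5⟩
  obtain ⟨M, g1, g2, q, g3, hq, hs, hk, hp⟩ := exists_quot_of i hK (exists_affine_orbit i hK L hL)
  have hq' := hq
  obtain ⟨q1, q2, q3⟩ := hq'
  have h4 : IsPullback (act i).act (snd K A) q q :=
    IsPullback.of_map (Over.forget S) (by
      have := hp.w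
      exact Over.OverMorphism.ext this) hp
  have key : ∀ {T : Over S} (c : T ⟶ K) (x : T ⟶ A), ((c ≫ i) * x) ≫ q = x ≫ q := by
    intro T c x
    rw [← lift_act, Category.assoc, h4.w, lift_snd_assoc]
  have key2 : ∀ {T : Over S} (x y : T ⟶ A), x ≫ q = y ≫ q → ∃ c : T ⟶ K, x = (c ≫ i) * y := by
    intro T x y hxy
    refine ⟨h4.lift x y hxy ≫ fst K A, ?_⟩
    have e1 := h4.lift_fst x y hxy
    have e2 := h4.lift_snd x y hxy
    rw [act_eq, lift_act, e2] at e1
    exact e1.symm
  have hM := isAbSch_of q hA hq i hk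
  refine ⟨M, g1, g2, q, g3, q1, q2, q3, hs, hM, hk,
    ⟨hM.proper, hM.smooth, K451.Prod.geometricallyIntegral_of_isAbSch hM⟩, fun {T} a b => ⟨fun hab => ?_, ?_⟩, ?_⟩
  · obtain ⟨c, hc⟩ := key2 a b hab
    exact ⟨c, by rw [hc, mul_inv_cancel_right]⟩
  · rintro ⟨c, hc⟩
    rw [show a = (c ≫ i) * b by rw [hc, inv_mul_cancel_right]]
    exact key c b
  · intro Z f hf
    obtain ⟨h, hh⟩ := K404.Desc.exists_desc q f (fun T x y hxy => by
      obtain ⟨c, rfl⟩ := key2 x y hxy
      exact hf T c y)
    have hepi : Epi q := K404.Desc.epi_of q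
    exact ⟨h, hh, fun h' hh' => by rw [← cancel_epi q, hh, hh']⟩

end main

end K515.QuotAb
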