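import Groth.Agent.AbSch.K449.AmpAb
import Groth.Agent.AbVar.K510.AVPts
import Groth.Agent.AbVar.K512.AV
import Groth.Agent.CurvesB.HZero
import Groth.Agent.CurvesC.DegZeroSec512
import Groth.Agent.S14124

/-!
# The cube of an ample module on an abelian variety is globally generated

* `square2` : `τ_a^* L ⊗ τ_b^* L ≅ τ_{ab}^* L ⊗ L`;
* `mk_cube` : `(τ_a^* L) ^ 2 ⊗ τ_{a^{-2}}^* L ≅ L ^ 3`;
* `isGloballyGenerated_cube` : `L ^ 3` is globally generated if `L` has a nonzero section;
* `isGloballyGenerated_of_isAmple` : the case of an ample module.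
-/

set_option autoImplicit false
universe u

open CategoryTheory Limits MonoidalCategory CartesianMonoidalCategory MonObj AlgebraicGeometry TopologicalSpace

namespace K515.CubeGG

open K449.FibTrans2 K449.SqSec K449.AmpAb Groth.Agent Groth.Agent.Grpsch.PicGrp Groth.Agent.Grpsch.Cube
  Groth.Agent.Fdesc.LocGen

variable {k : Type u} [Field k] {G : Over (Spec (CommRingCat.of k))} [GrpObj G] [IsProper G.hom]
  [GeometricallyIntegral G.hom]

/-- Theorem of the square. -/
theorem square2 [IsCommMonObj G] (L : Pic G.left) (p q : 𝟙_ (Over (Spec (CommRingCat.of k))) ⟶ G) :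
    pl (tr (p * q)) L * L = pl (tr p) L * pl (tr q) L := by
  have h := cube L (toUnit G ≫ p) (toUnit G ≫ q) (𝟙 G)
  have h1 : (toUnit G ≫ p) * (toUnit G ≫ q) = toUnit G ≫ (p * q) := by rw [MonObj.comp_mul]
  have h2 : pl (𝟙 G) L = L := by
    unfold pl
    rw [Over.id_left, pull_id]
  rw [h1, h2, Sga7.H260.Square.pl_const, Sga7.H260.Square.pl_const, Sga7.H260.Square.pl_const, _root_.mul_one,
    _root_.mul_one, _root_.one_mul] at h
  exact h

theorem mk_cube [IsCommMonObj G] (L : Pic G.left) (a : 𝟙_ (Over (Spec (CommRingCat.of k))) ⟶ G) :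
    pl (tr a) (L * L) * pl (tr (a * a)⁻¹) L = L ^ 3 := by
  have h1 := square2 L a a
  have h2 := square2 L (a * a) (a * a)⁻¹
  rw [mul_inv_cancel, tr_one] at h2
  have h3 : pl (𝟙 G) L = L := by
    unfold pl
    rw [Over.id_left, pull_id]
  rw [h3] at h2
  rw [map_mul, ← h1, mul_right_comm, ← h2, pow_three, _root_.mul_assoc]

/-- The cube of an invertible module with a nonzero section is globally generated. -/
theorem isGloballyGenerated_cube [IsAlgClosed k] [IsCommMonObj G] {L : G.left.Modules} (hL : PicF.IsInvertible L)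
    (s : Coh.structureModule G.left ⟶ L) (hs : (CohB1.genLocus L s : Set G.left).Nonempty)
    (M : G.left.Modules) (hM : PicF.IsInvertible M) (hLM : mk M hM = mk L hL ^ 3) :
    Curv2.IsGloballyGenerated M := by
  have hint : IsIntegral G.left := GeometricallyIntegral.isIntegral_of_subsingleton G.hom
  have hcs : CompactSpace G.left := QuasiCompact.compactSpace_of_compactSpace G.hom
  have key : ∀ y : G.left, ∃ t : Coh.structureModule G.left ⟶ M, y ∈ CohB1.genLocus M t := by
    intro y
    obtain ⟨z, hz, hcl⟩ := IsClosed.exists_closed_singleton (S := closure ({y} : Set G.left))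
      isClosed_closure ⟨y, subset_closure rfl⟩
    obtain ⟨b, rfl⟩ := exists_pt_eq G z hcl
    obtain ⟨c, hc⟩ := exists_pt_mem G (CohB1.genLocus L s) hs
    obtain ⟨a, ha⟩ : ∃ a : 𝟙_ (Over (Spec (CommRingCat.of k))) ⟶ G, a ^ 2 = b * c⁻¹ :=
      K510.AVPts.exists_pow_eq G 2 (by norm_num) (b * c⁻¹ : 𝟙_ (Over (Spec (CommRingCat.of k))) ⟶ G)
    have ha' : (a * a)⁻¹ * b = c := by
      have h : a * a = b * c⁻¹ := by
        rw [← sq]
        exact ha
      rw [h, mul_inv_rev, inv_inv, inv_mul_cancel_right]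
    obtain ⟨a₁, t₁, ht₁, -⟩ := exists_section_mem hL s hs (CohB1.tensorMod L L) (isInvertible_tensorMod hL hL)
      (mk_mul_mk hL hL).symm ((tr a).left (pt b))
    have h1 := mk_cube (mk L hL) a
    have h2 : pull (tr a).left (mk (CohB1.tensorMod L L) (isInvertible_tensorMod hL hL)) *
        pull (tr (a * a)⁻¹).left (mk L hL) = mk M hM := by
      rw [hLM, ← mk_mul_mk hL hL]
      exact h1
    rw [pull_mk, pull_mk, mk_mul_mk, mk_eq_iff] at h2
    obtain ⟨e⟩ := h2
    refine ⟨Ega2.Weight.tmulHom (Ega2.Weight.pullHom (tr a).left t₁) (Ega2.Weight.pullHom (tr (a * a)⁻¹).left s) ≫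
      e.hom, ?_⟩
    have h3 : pt b ∈ CohB1.genLocus M (Ega2.Weight.tmulHom (Ega2.Weight.pullHom (tr a).left t₁)
        (Ega2.Weight.pullHom (tr (a * a)⁻¹).left s) ≫ e.hom) := by
      rw [Ega2.Weight.genLocus_comp, Ega2.Weight.genLocus_tmulHom
        (isInvertible_pullback _ (isInvertible_tensorMod hL hL)) (isInvertible_pullback _ hL),
        Ega2.Weight.genLocus_pullHom _ (isInvertible_tensorMod hL hL), Ega2.Weight.genLocus_pullHom _ hL]
      refine ⟨ht₁, ?_⟩
      change (tr (a * a)⁻¹).left (pt b) ∈ CohB1.genLocus L s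
      rw [pt_tr, ha']
      exact hc
    have h4 : y ⤳ pt b := specializes_iff_mem_closure.mpr hz
    exact h4.mem_open (CohB1.genLocus M _).2 h3
  choose t ht using key
  exact VarietyA.Dim1GlobGen.isGloballyGenerated t fun x => ⟨x, ht x⟩

/-- The cube of an ample module on an abelian variety is globally generated. -/
theorem isGloballyGenerated_of_isAmple [IsAlgClosed k] [IsCommMonObj G] {M : G.left.Modules}
    (hM : CohB1.IsAmple M) (L : G.left.Modules) (hL : Nonempty (L ≅ CohB1.tensorPow M 3)) :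
    Curv2.IsGloballyGenerated L := by
  have i1 : Smooth G.hom := K449.Basic.smooth G
  have i2 : GeometricallyConnected G.hom := by
    refine ⟨fun K _ y Y fst snd hpb => ?_⟩
    have := GeometricallyIrreducible.geometrically_irreducibleSpace (f := G.hom) y fst snd hpb
    infer_instance
  have i5 : IsIntegral G.left := GeometricallyIntegral.isIntegral_of_subsingleton G.hom
  obtain ⟨t', ht'⟩ := @exists_ne _ (S14124.result k G M hM).2 (0 : Coh.HH G.left M 0)
  let t : Γ(M, ⊤) := Groth.Agent.CurvesB.HZero.equivAdd M t'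
  have ht : t ≠ 0 := fun h => ht' ((Groth.Agent.CurvesB.HZero.equivAdd M).injective (h.trans (map_zero _).symm))
  obtain ⟨e⟩ := hL
  have hL3 : PicF.IsInvertible (CohB1.tensorPow M 3) := isInvertible_tensorPow hM.1 3
  have hLi : PicF.IsInvertible L := fun x => by
    obtain ⟨U, hx, ⟨j⟩⟩ := hL3 x
    exact ⟨U, hx, ⟨(Scheme.Modules.restrictFunctor U.ι).mapIso e ≪≫ j⟩⟩
  refine isGloballyGenerated_cube hM.1 (homOf t) ?_ L hLi ?_
  · by_contra hne
    have h0 : CohB1.genLocus M (homOf t) = ⊥ := (TopologicalSpace.Opens.not_nonempty_iff_eq_bot _).mp hne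
    have h1 := CurvesC.DegZeroSec512.eq_zero_of_genLocus_eq_bot hM.1 _ h0
    apply ht
    have h3 : sec (homOf t) ⊤ = sec (0 : Coh.structureModule _ ⟶ _) ⊤ := by rw [h1]
    rw [sec_homOf, res_refl] at h3
    rw [h3]
    rfl
  · rw [← mk_tensorPow hM.1 3, mk_eq_iff]
    exact ⟨e⟩

end K515.CubeGG
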