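import Groth.Agent.AgPol.K515.Frame
import Groth.Agent.AgPol.K515.CubeGG
import Groth.Agent.AgPol.K465.TorsSec

/-!
# The node FRAME, modulo the degree formula S14161
-/

set_option autoImplicit false
universe u

open CategoryTheory Limits MonoidalCategory CartesianMonoidalCategory AlgebraicGeometry

namespace K515.FrameMain

theorem van : K515.Frame.VanStmt.{u} := by
  intro Ω _ _ A _ _ g N hg hA hN M L hM hL s hs
  obtain ⟨n, rfl⟩ : ∃ n, g = n + 1 := ⟨g - 1, by omega⟩
  exact K465.TorsSec.card_vanish_le hA hM hL s hs N hN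

theorem gg : K515.Frame.GGStmt.{u} := by
  intro Ω _ _ A _ _ g hA M L hM hL
  have i1 := hA.smooth
  have i2 := hA.proper
  have i3 := hA.geomConnected
  have i4 : GeometricallyIntegral A.hom := K512.AV.geometricallyIntegral _
  exact K515.CubeGG.isGloballyGenerated_of_isAmple hM L hL

/-- **FRAME.** -/
theorem main (h14161 : K515.PolFinMain.Stmt14161.{u}) {g d n m : ℕ} (hg : 1 ≤ g) (hm : m + 1 = 6 ^ g * d)
    (hn : (6 ^ g * d) ^ 2 * g.factorial < n ^ 2) : K117.Ag.Node.Frame.{u} g d n m :=
  K515.Frame.main h14161 van gg hg hm hn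

end K515.FrameMain
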