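import Groth.Agent.AgPol.K515.FrameAlg
import Groth.Agent.AgPol.K117.Defs
import Groth.Agent.FlatMor.K361.PnAux

/-!
# Frames of rational points of a scheme over a field, for a generating system of sections

`exists_frame_map`: `s 0, …, s m` generate the invertible module `L` on the `k`-scheme `X` and every non-trivial linear
combination of them vanishes at fewer than `#T / (m + 1)` of the `k`-points `p x`, `x ∈ T`: after a linear change of
coordinates the morphism to `P^m` given by the `s i` maps `m + 2` of the points to the standard frame.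
-/

set_option autoImplicit false
universe u

open CategoryTheory Limits TopologicalSpace AlgebraicGeometry

namespace K515.FrameGeom

open K390.PnSec Groth.Agent.Fdesc.LocGen Groth.Agent.Grpsch.PicGrp

/-- A module on a one point scheme has a generator. -/
theorem exists_gen_of_subsingleton {X : Scheme.{u}} [Subsingleton X] [Nonempty X] {M : X.Modules}
    (hM : PicF.IsInvertible M) : ∃ e : Γ(M, ⊤), IsGen e := by
  obtain ⟨x⟩ := ‹Nonempty X›
  obtain ⟨U, e, hx, he⟩ := (isInvertible_iff M).mp hM x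
  have hU : U = ⊤ := by
    rw [eq_top_iff]
    intro y _
    rwa [Subsingleton.elim y x]
  subst hU
  exact ⟨e, he⟩

/-- A morphism given by `v i • e`, `e` a generator, is the point with coordinates `v`. -/
theorem isPt_of_gen {T : Scheme.{u}} {m : ℕ} {r : T ⟶ K117.Ag.PZ.{u} m} {M : T.Modules} {e : Γ(M, ⊤)}
    (he : IsGen e) {v : Fin (m + 1) → Γ(T, ⊤)} (h : GivenBy r M (fun i => v i • e)) : K117.Ag.IsPt r v := by
  obtain ⟨φ, hφ⟩ := K361.PnAux.exists_iso_of_isGen he (isGen_one ⊤)
  have h1 := h.of_iso φ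
  have h2 : (fun i => φ.hom.app ⊤ (v i • e)) = fun i => (v i : Γ(Coh.structureModule T, ⊤)) := by
    funext i
    rw [Scheme.Modules.Hom.app_smul, hφ]
    exact (ofFun_eq_smul (v i)).symm
  rw [h2] at h1
  exact h1

section gen

variable {X : Scheme.{u}} {M : X.Modules}

/-- If a combination of the `t i` generates at a point, so does one of the `t i`. -/
theorem mem_iSup_genLocus_of_comb (hM : PicF.IsInvertible M) {m : ℕ} {σ : Γ(M, ⊤)} {t : Fin m → Γ(M, ⊤)}
    (a : Fin m → Γ(X, ⊤)) (h : σ = ∑ i, a i • t i) {y : X} (hj : y ∈ CohB1.genLocus M (homOf σ)) :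
    y ∈ ⨆ i, CohB1.genLocus M (homOf (t i)) := by
  obtain ⟨U, e, hy, he⟩ := (isInvertible_iff M).mp hM y
  choose β hβ using fun i => he.exists_eq (res M le_top (t i))
  have h2 : sec (homOf σ) U = (∑ i, ores le_top (a i) * β i) • e := by
    rw [sec_homOf, h, map_sum, Finset.sum_smul]
    refine Finset.sum_congr rfl fun i _ => ?_
    rw [res_smul, hβ i, mul_smul]
  have h3 : y ∈ X.basicOpen (∑ i, ores le_top (a i) * β i) := by
    rw [← genLocus_inf_eq _ he h2]
    exact ⟨hj, hy⟩
  rw [Scheme.mem_basicOpen _ _ _ hy, map_sum] at h3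
  obtain ⟨i, hi⟩ : ∃ i, IsUnit ((X.presheaf.germ U y hy).hom (β i)) := by
    by_contra hcon
    push Not at hcon
    have h4 : ∀ i, (X.presheaf.germ U y hy).hom (ores le_top (a i) * β i) ∈
        IsLocalRing.maximalIdeal (X.presheaf.stalk y) := fun i => by
      rw [map_mul]
      exact Ideal.mul_mem_left _ _ ((IsLocalRing.mem_maximalIdeal _).mpr (hcon i))
    exact (IsLocalRing.mem_maximalIdeal _).mp (Ideal.sum_mem _ fun i _ => h4 i) h3
  refine Opens.mem_iSup.mpr ⟨i, ?_⟩
  have h5 : y ∈ CohB1.genLocus M (homOf (t i)) ⊓ U := by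
    rw [genLocus_inf_eq _ he ((sec_homOf _ _).trans (hβ i)), Scheme.mem_basicOpen _ _ _ hy]
    exact hi
  exact h5.1

/-- If the `s j` are combinations of the `t i` and generate, the `t i` generate. -/
theorem iSup_genLocus_of_comb (hM : PicF.IsInvertible M) {n m : ℕ} {s : Fin n → Γ(M, ⊤)} {t : Fin m → Γ(M, ⊤)}
    (a : Fin n → Fin m → Γ(X, ⊤)) (h : ∀ j, s j = ∑ i, a j i • t i)
    (hs : ⨆ j, CohB1.genLocus M (homOf (s j)) = ⊤) : ⨆ i, CohB1.genLocus M (homOf (t i)) = ⊤ := by
  rw [eq_top_iff]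
  intro y _
  have h1 : y ∈ ⨆ j, CohB1.genLocus M (homOf (s j)) := by rw [hs]; trivial
  obtain ⟨j, hj⟩ := Opens.mem_iSup.mp h1
  exact mem_iSup_genLocus_of_comb hM (a j) (h j) hj

end gen

section map

variable {k : Type u} [Field k] {X : Scheme.{u}} (q : X ⟶ Spec (CommRingCat.of k))

/-- The scalars as functions. -/
noncomputable def cst : k →+* Γ(X, ⊤) := q.appTop.hom.comp (Scheme.ΓSpecIso (CommRingCat.of k)).inv.hom

theorem appTop_cst {Y : Scheme.{u}} (f : Y ⟶ X) (a : k) : f.appTop (cst q a) = cst (f ≫ q) a := by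
  rw [cst, cst, Scheme.Hom.comp_appTop]
  rfl

/-- The functions on `Spec k` are the scalars. -/
theorem bijective_cst_id : Function.Bijective (cst (𝟙 (Spec (CommRingCat.of k)))) := by
  rw [cst, Scheme.Hom.id_appTop]
  exact ConcreteCategory.bijective_of_isIso (Scheme.ΓSpecIso (CommRingCat.of k)).inv

theorem map_stdv {R R' : Type*} [CommRing R] [CommRing R'] (f : R →+* R') (m : ℕ) (j : Fin (m + 2)) (i : Fin (m + 1)) :
    f (K117.Ag.stdv R m j i) = K117.Ag.stdv R' m j i := by
  rw [K117.Ag.stdv, K117.Ag.stdv]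
  split_ifs with h
  · rw [Pi.single_apply, Pi.single_apply]
    split_ifs <;> simp
  · exact map_one f

theorem exists_frame_map {m : ℕ} {L : X.Modules} (hL : PicF.IsInvertible L) {s : Fin (m + 1) → Γ(L, ⊤)}
    (hs : ⨆ j, CohB1.genLocus L (homOf (s j)) = ⊤) {T : Type*} [Finite T]
    (p : T → (Spec (CommRingCat.of k) ⟶ X)) (hp : ∀ x, p x ≫ q = 𝟙 _)
    (h : ∀ c : Fin (m + 1) → k, c ≠ 0 →
      (m + 1) * Nat.card {x : T // pullTop (p x) (∑ i, cst q (c i) • s i) = 0} < Nat.card T) :
    ∃ (I : Fin (m + 2) → T) (r : X ⟶ K117.Ag.PZ.{u} m) (t : Fin (m + 1) → Γ(L, ⊤)), GivenBy r L t ∧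
      ∀ j, K117.Ag.IsStd j (p (I j) ≫ r) := by
  -- coordinates of the points
  choose e he using fun x : T => exists_gen_of_subsingleton (isInvertible_pullback (p x) hL)
  have hco : ∀ (x : T) (i : Fin (m + 1)), ∃ a : k, pullTop (p x) (s i) = cst (𝟙 (Spec (CommRingCat.of k))) a • e x := by
    intro x i
    obtain ⟨b, hb⟩ := (he x).exists_eq (pullTop (p x) (s i))
    obtain ⟨a, ha⟩ := bijective_cst_id.2 b
    exact ⟨a, by rw [hb, ha]⟩
  choose v hv using hco
  have hcomb : ∀ (x : T) (c : Fin (m + 1) → k), pullTop (p x) (∑ i, cst q (c i) • s i) =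
      cst (𝟙 (Spec (CommRingCat.of k))) (∑ i, c i * v x i) • e x := by
    intro x c
    rw [pullTop_sum_smul, map_sum, Finset.sum_smul]
    refine Finset.sum_congr rfl fun i _ => ?_
    rw [appTop_cst, hp x, hv x i, map_mul, mul_smul]
  have hzero : ∀ (x : T) (c : Fin (m + 1) → k), pullTop (p x) (∑ i, cst q (c i) • s i) = 0 ↔
      ∑ i, c i * v x i = 0 := by
    intro x c
    rw [hcomb]
    constructor
    · intro h0
      refine bijective_cst_id.1 ?_
      rw [map_zero]
      exact (he x).ext (h0.trans (zero_smul _ _).symm)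
    · intro h0
      rw [h0, map_zero, zero_smul]
  obtain ⟨I, b, b', μ, hbb, hμ, hI⟩ := K515.FrameAlg.exists_frame v (fun c hc => by
    refine lt_of_eq_of_lt ?_ (h c hc)
    congr 1
    exact Nat.card_congr (Equiv.subtypeEquivRight fun x => (hzero x c).symm))
  let t : Fin (m + 1) → Γ(L, ⊤) := fun i => ∑ j, cst q (b i j) • s j
  have hst : ∀ j, s j = ∑ i, cst q (b' j i) • t i := by
    intro j
    have h1 : ∀ l, ∑ i, cst q (b' j i) * cst q (b i l) = if j = l then 1 else 0 := fun l => by
      have h2 := congrFun (congrFun hbb j) l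
      rw [Matrix.mul_apply, Matrix.one_apply] at h2
      rw [Finset.sum_congr rfl fun i _ => (map_mul (cst q) (b' j i) (b i l)).symm, ← map_sum, h2]
      split_ifs <;> simp
    calc s j = ∑ l, (∑ i, cst q (b' j i) * cst q (b i l)) • s l := by simp [h1]
      _ = ∑ l, ∑ i, (cst q (b' j i) * cst q (b i l)) • s l := by simp only [Finset.sum_smul]
      _ = ∑ i, ∑ l, (cst q (b' j i) * cst q (b i l)) • s l := Finset.sum_comm
      _ = ∑ i, cst q (b' j i) • t i := by simp only [t, Finset.smul_sum, mul_smul]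
  obtain ⟨r, hr⟩ := exists_givenBy' t (iSup_genLocus_of_comb hL (fun j i => cst q (b' j i)) hst hs)
  refine ⟨I, r, t, hr, fun j => ?_⟩
  have hu : IsUnit (cst (𝟙 (Spec (CommRingCat.of k))) (μ j)) := (IsUnit.mk0 _ (hμ j)).map _
  refine isPt_of_gen ((he (I j)).unit_smul hu) ?_
  have h1 := hr.comp (p (I j))
  have h2 : (fun i => pullTop (p (I j)) (t i)) = fun i => K117.Ag.stdv Γ(Spec (CommRingCat.of k), ⊤) m j i •
      (cst (𝟙 (Spec (CommRingCat.of k))) (μ j) • e (I j)) := by
    funext i
    have h3 := hcomb (I j) (b i)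
    rw [hI j i, map_mul, mul_comm, mul_smul] at h3
    refine h3.trans ?_
    congr 1
    exact map_stdv _ m j i
  rw [h2] at h1
  exact h1

end map

end K515.FrameGeom
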