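import Groth.Agent.AgPol.K515.RankPol
import Groth.Agent.AgPol.K533.FamCore
import Groth.Agent.AgPol.K533.Amp
import Groth.Agent.S2390
import Groth.Agent.Ega3B.NearFibre
import Groth.Agent.S12128
import Groth.Agent.PicF.K449.Seesaw1

/-!
# The rank of the direct image of a relatively ample module on an abelian scheme

`isFinLocFreeOfRank_push` : `L` relatively ample on the abelian scheme `A` over the locally Noetherian scheme `S`,
`h⁰(A_s, L_s) = r` for all `s`: `π_* L` is locally free of rank `r`.
`isFinLocFreeOfRank_pol` : for `L` of class `c ^ j` times a class from the base, `c` the class of a polarisation of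
degree `d ^ 2`, the rank is `(2 j) ^ g d`.
-/

set_option autoImplicit false
universe u

open CategoryTheory CategoryTheory.Limits MonoidalCategory CartesianMonoidalCategory AlgebraicGeometry
open scoped MonObj

namespace K515.RankFam

open Groth.Agent Groth.Agent.Grpsch.PicGrp Groth.Agent.Fga.RigGrp K732.PicZero K732.Prim K732.Dual K732.BC
open K515.PolFinMain K515.RankPol

/-- Base change of polarisation classes. -/
theorem isPolCl_bc {S S' : Scheme.{u}} (k : S' ⟶ S) {A : Over S} [GrpObj A] {g : ℕ} (hA : AgPol.IsAbSch A g)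
    {d : ℕ} {c : Pic A.left} (h : K117.Ag.IsPolCl A d c) :
    K117.Ag.IsPolCl (Red.bc k A) d (pull (pullback.fst A.hom k) c) := by
  obtain ⟨At, _, _, φ, ξ, lam, hD, h1, h2, h3, hpol, hdeg, rfl⟩ := h
  have := hA.smooth
  have := hA.proper
  have := hA.geomConnected
  have : GeometricallyIntegral A.hom := K814.AbBasic.geometricallyIntegral A
  refine ⟨Red.bc k At, inferInstance, inferInstance, AgPol.bcDual k A At φ, bcXi k A At ξ, (Over.pullback k).map lam,
    isDualAV_bc hD, bcXi_mem_pz h1, bcXi_mem_rg h2, K533.PolBC.cm_bcXi_eq k hD h1 h3,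
    K533.PolBC.isPolarization_bc k hD h1 h2 h3 hpol, K533.PolBC.hasDegSq_bc k hdeg, ?_⟩
  have e1 := ev_bcXi (k := k) (prj k A) (prj k A ≫ lam) ξ
  rw [up_comp, up_prj, Category.id_comp] at e1
  rw [e1]
  exact K814.Graph.gr_point lam ξ (prj k A)

/-- Vanishing of the higher direct images (S14164). -/
def RelVanStmt : Prop := ∀ (S : Scheme.{u}) [IsLocallyNoetherian S] (A : Over S) [GrpObj A] (g : ℕ),
    AgPol.IsAbSch A g → ∀ [HasInjectiveResolutions A.left.Modules] (L : A.left.Modules), PicF.IsInvertible L →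
      RelAmple.IsRelAmple A.hom L → ∀ i : ℕ, 1 ≤ i → IsZero ((Coh.Rpush A.hom i).obj L)

variable {S : Scheme.{u}} [IsLocallyNoetherian S]

theorem isFinLocFreeOfRank_push (hvan : RelVanStmt.{u}) (A : Over S) [GrpObj A] {g : ℕ} (hA : AgPol.IsAbSch A g)
    (L : A.left.Modules) (hL : PicF.IsInvertible L) (hamp : RelAmple.IsRelAmple A.hom L) (r : ℕ)
    (hr : ∀ s : S, @Module.finrank (S.residueField s)
      (Coh.HH (Red.bc (S.fromSpecResidueField s) A).left
        ((Scheme.Modules.pullback (pullback.fst A.hom (S.fromSpecResidueField s))).obj L) 0) _ _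
      (@Coh.moduleOver (S.residueField s) _ (Red.bc (S.fromSpecResidueField s) A).left
        ⟨(Red.bc (S.fromSpecResidueField s) A).hom⟩ _ 0) = r) :
    FlatMod.IsFinLocFreeOfRank r ((Coh.push A.hom).obj L) := by
  have := hA.smooth
  have := hA.proper
  have : HasInjectiveResolutions A.left.Modules := inferInstance
  have h1 := (S2390.result A.hom L (Groth.Agent.VarietyA.CurveFin.isCoh_of_isInvertible hL)
    (Ega3B.NearFibre.isFlatOver_of_isInvertible A.hom hL) (fun i hi => hvan S A g hA L hL hamp i hi)).2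
  intro s
  obtain ⟨U, hs, e⟩ := h1 s
  have h2 : CohIII.fiberRank A.hom L 0 s = r := hr s
  rw [h2] at e
  exact ⟨U, hs, e⟩

omit [IsLocallyNoetherian S] in
/-- The fibre of a multiple of a polarisation class. -/
theorem fibre_pol (h14161 : Stmt14161.{u}) (A : Over S) [GrpObj A]
    {g : ℕ} (hA : AgPol.IsAbSch A g) {d : ℕ} {c : Pic A.left} (hc : K117.Ag.IsPolCl A d c) (j : ℕ) (hj : 1 ≤ j)
    (L : A.left.Modules) (hL : PicF.IsInvertible L) (N : Pic S) (hLc : mk L hL = c ^ j * pull A.hom N)
    (K : Type u) [Field K] (t : Spec (CommRingCat.of K) ⟶ S) :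
    CohB1.IsAmple ((Scheme.Modules.pullback (pullback.fst A.hom t)).obj L) ∧
      @Module.finrank K (Coh.HH (Red.bc t A).left ((Scheme.Modules.pullback (pullback.fst A.hom t)).obj L) 0) _ _
        (@Coh.moduleOver K _ (Red.bc t A).left ⟨(Red.bc t A).hom⟩ _ 0) = (2 * j) ^ g * d := by
  refine rank h14161 (Red.bc t A) g d (K533.PolBC.isAbSch_bc t hA) (isPolCl_bc t hA hc) j hj _
    (Groth.Agent.Fdesc.LocGen.isInvertible_pullback _ hL) ?_
  rw [← pull_mk _ hL, hLc, map_mul, map_pow, ← pull_comp, pullback.condition, pull_comp,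
    K449.Seesaw1.pic_spec_local _ (pull t N), map_one, mul_one]

/-- The rank of the direct image for a multiple of a polarisation class. -/
theorem isFinLocFreeOfRank_pol (h14161 : Stmt14161.{u}) (hvan : RelVanStmt.{u}) (A : Over S) [GrpObj A]
    {g : ℕ} (hA : AgPol.IsAbSch A g) {d : ℕ} {c : Pic A.left} (hc : K117.Ag.IsPolCl A d c) (j : ℕ) (hj : 1 ≤ j)
    (L : A.left.Modules) (hL : PicF.IsInvertible L) (N : Pic S) (hLc : mk L hL = c ^ j * pull A.hom N) :
    RelAmple.IsRelAmple A.hom L ∧ FlatMod.IsFinLocFreeOfRank ((2 * j) ^ g * d) ((Coh.push A.hom).obj L) := by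
  have := hA.smooth
  have := hA.proper
  have h1 := fun s : S => fibre_pol h14161 A hA hc j hj L hL N hLc (S.residueField s) (S.fromSpecResidueField s)
  have h2 : RelAmple.IsRelAmple A.hom L := (Groth.Agent.S12128.result A.hom L hL).2 fun s => (h1 s).1
  exact ⟨h2, isFinLocFreeOfRank_push hvan A hA L hL h2 _ fun s => (h1 s).2⟩

end K515.RankFam
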