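import Groth.Agent.AgPol.K117.Defs

/-!
# The torsion points of a level structure over an algebraically closed field
-/

set_option autoImplicit false
universe u

open CategoryTheory Limits MonoidalCategory CartesianMonoidalCategory AlgebraicGeometry
open scoped MonObj

namespace K515.FrameLevel

/-- In a commutative group a subgroup generated by a finite family of elements of order dividing `n` consists of
the products of powers with exponents less than `n`. -/
theorem exists_prod {G : Type*} [CommGroup G] {r n : ℕ} (hn : 1 ≤ n) (s : Fin r → G) (hs : ∀ i, s i ^ n = 1) {x : G}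
    (hx : x ∈ Subgroup.closure (Set.range s)) : ∃ a : Fin r → Fin n, ∏ i, s i ^ (a i : ℕ) = x := by
  have h1 : ∃ k : Fin r → ℤ, ∏ i, s i ^ k i = x := by
    induction hx using Subgroup.closure_induction with
    | mem x hx =>
      obtain ⟨i, rfl⟩ := hx
      refine ⟨Pi.single i 1, ?_⟩
      rw [Finset.prod_eq_single i]
      · rw [Pi.single_eq_same, zpow_one]
      · intro j _ hj
        rw [Pi.single_eq_of_ne hj, zpow_zero]
      · intro h
        exact absurd (Finset.mem_univ i) h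
    | one => exact ⟨0, by simp⟩
    | mul x y _ _ hx hy =>
      obtain ⟨a, rfl⟩ := hx
      obtain ⟨b, rfl⟩ := hy
      refine ⟨a + b, ?_⟩
      rw [← Finset.prod_mul_distrib]
      exact Finset.prod_congr rfl fun i _ => zpow_add _ _ _
    | inv x _ hx =>
      obtain ⟨a, rfl⟩ := hx
      refine ⟨-a, ?_⟩
      rw [← Finset.prod_inv_distrib]
      exact Finset.prod_congr rfl fun i _ => zpow_neg _ _
  obtain ⟨k, rfl⟩ := h1
  have hn' : (0 : ℤ) < n := by exact_mod_cast hn
  refine ⟨fun i => ⟨(k i % n).toNat, ?_⟩, Finset.prod_congr rfl fun i _ => ?_⟩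
  · have h1 := Int.emod_lt_of_pos (k i) hn'
    have h2 := Int.emod_nonneg (k i) hn'.ne'
    omega
  · have h2 := Int.emod_nonneg (k i) hn'.ne'
    rw [← zpow_natCast]
    simp only
    rw [Int.toNat_of_nonneg h2]
    conv_rhs => rw [← Int.emod_add_mul_ediv (k i) n]
    rw [zpow_add, zpow_mul, zpow_natCast, hs i, one_zpow, mul_one]

variable {Ω : Type u} [Field Ω] [IsAlgClosed Ω] {X : Over (Spec (CommRingCat.of Ω))} [GrpObj X] [IsCommMonObj X]
  {g n : ℕ}

theorem exists_tp (hn : 1 ≤ n) (σ : Fin (2 * g) → (𝟙_ (Over (Spec (CommRingCat.of Ω))) ⟶ X))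
    (h : AgPol.IsLevelStr X g n σ) (x : 𝟙_ (Over (Spec (CommRingCat.of Ω))) ⟶ X) (hx : x ^ n = 1) :
    ∃ a : Fin (2 * g) → Fin n, K117.Ag.tp X σ a = x := by
  obtain ⟨h1, h2⟩ := h
  obtain ⟨h3, -⟩ := h2 Ω (𝟙 _)
  have h4 : ∀ i, toUnit (Over.mk (𝟙 (Spec (CommRingCat.of Ω)))) ≫ σ i = σ i := fun i => by
    have : toUnit (Over.mk (𝟙 (Spec (CommRingCat.of Ω)))) = 𝟙 (𝟙_ (Over (Spec (CommRingCat.of Ω)))) :=
      toUnit_unique _ _
    rw [this]
    exact Category.id_comp _
  have h5 : x ∈ Subgroup.closure (Set.range σ) := by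
    have h6 : x ∈ AgPol.torsSet X n (Over.mk (𝟙 (Spec (CommRingCat.of Ω)))) := hx
    rw [← h3] at h6
    have h7 : (fun i => toUnit (Over.mk (𝟙 (Spec (CommRingCat.of Ω)))) ≫ σ i) = σ := funext h4
    rw [h7] at h6
    exact h6
  obtain ⟨a, ha⟩ := exists_prod hn σ h1 h5
  refine ⟨a, ?_⟩
  rw [K117.Ag.tp, List.prod_ofFn]
  exact ha

theorem card_tors (σ : Fin (2 * g) → (𝟙_ (Over (Spec (CommRingCat.of Ω))) ⟶ X))
    (h : AgPol.IsLevelStr X g n σ) :
    Nat.card {x : 𝟙_ (Over (Spec (CommRingCat.of Ω))) ⟶ X // x ^ n = 1} = n ^ (2 * g) :=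
  (h.2 Ω (𝟙 _)).2

end K515.FrameLevel
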