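import Groth.Agent.AgPol.K116.ChGrp
import Groth.Agent.AgPol.K515.FrameLevel
import Groth.Agent.AgPol.K533.PolBC
import Groth.Agent.AbVar.K510.AVPts

/-!
# Torsion points of a level structure on a polarised abelian scheme

`X` an abelian scheme over `S` with the class `c` of a polarisation and a level-`N ^ 2` structure `τ`.

* `tors_A` : `N (∑ a i τ i)` is killed by `N` and `c` is trivial along it;
* `tors_B` : over an algebraically closed field these are all the points killed by `N`;
* `tors_C` : `q τ i` is one of them if `N ^ 2 = n q` and `n ∣ N`.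
-/

set_option autoImplicit false
universe u

open CategoryTheory Limits MonoidalCategory CartesianMonoidalCategory AlgebraicGeometry
open scoped MonObj

namespace K515.QPTors

open Groth.Agent Groth.Agent.Grpsch.PicGrp Groth.Agent.Fga.RigGrp K732.PicZero K732.Prim K732.Dual
open K117.Ag

variable {S : Scheme.{u}}

/-- In a commutative group a product of powers of elements killed by `M` is killed by `M`. -/
theorem tp_pow_eq_one (X : Over S) [GrpObj X] [IsCommMonObj X] {g M : ℕ} (τ : Fin (2 * g) → (𝟙_ (Over S) ⟶ X))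
    (h : ∀ i, τ i ^ M = 1) (a : Fin (2 * g) → Fin M) : tp X τ a ^ M = 1 := by
  unfold tp
  rw [List.prod_ofFn, ← Finset.prod_pow]
  refine Finset.prod_eq_one fun i _ => ?_
  rw [← pow_mul, mul_comm, pow_mul, h i, one_pow]

/-- The class of a polarisation is trivial along `N`-th multiples of points killed by `N ^ 2`. -/
theorem pull_pow_eq_one (X : Over S) [GrpObj X] {g d : ℕ} (hX : AgPol.IsAbSch X g) {c : Pic X.left}
    (hc : IsPolCl X d c) {W : Over S} (x : W ⟶ X) {N : ℕ} (hx : x ^ (N * N) = 1) :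
    pull (x ^ N).left c = 1 := by
  obtain ⟨At, gAt, cAt, φ, ξ, lam, hD, h1, h2, h3, hpol, hdeg, rfl⟩ := hc
  have := hX.smooth
  have := hX.proper
  have := hX.geomConnected
  have hint : GeometricallyIntegral X.hom := K814.AbBasic.geometricallyIntegral X
  have hlam := hpol.1
  have e1 : ∀ (y : W ⟶ X) (z : W ⟶ At) (k : ℕ), ev (y ^ k) z ξ = ev y z ξ ^ k := by
    intro y z k
    induction k with
    | zero =>
      have h := K814.Pair.ev_mul_left h1 h2 (1 : W ⟶ X) 1 z
      rw [_root_.one_mul] at h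
      rw [pow_zero, pow_zero]
      exact mul_eq_left.1 h.symm
    | succ k ih => rw [pow_succ, pow_succ, K814.Pair.ev_mul_left h1 h2, ih]
  rw [K814.Graph.gr_point, MonObj.pow_comp, K814.Graph.ev_pow_right hD h1 h2 h3, e1, ← pow_mul,
    ← K814.Graph.ev_pow_right hD h1 h2 h3, ← MonObj.pow_comp, hx, MonObj.one_comp,
    K814.Pair.ev_one_right hD h1 h2 h3]

variable (X : Over S) [GrpObj X] [IsCommMonObj X] (g d N : ℕ) (hN : 1 ≤ N) (hX : AgPol.IsAbSch X g)
  (τ : Fin (2 * g) → (𝟙_ (Over S) ⟶ X)) (ht : AgPol.IsLevelStr X g (N * N) τ)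

/-- **(A)** -/
theorem tors_A (hX : AgPol.IsAbSch X g) (c : Pic X.left) (hc : IsPolCl X d c)
    (ht : AgPol.IsLevelStr X g (N * N) τ) (a : Fin (2 * g) → Fin (N * N)) :
    (tp X τ a ^ N) ^ N = 1 ∧ pull (tp X τ a ^ N).left c = 1 := by
  have h1 : tp X τ a ^ (N * N) = 1 := tp_pow_eq_one X τ ht.1 a
  exact ⟨by rw [← pow_mul, h1], pull_pow_eq_one X hX hc _ h1⟩

include hN hX ht in
/-- **(B)** -/
theorem tors_B (Ω : Type u) [Field Ω] [IsAlgClosed Ω] (t : Spec (CommRingCat.of Ω) ⟶ S)
    (y : 𝟙_ (Over (Spec (CommRingCat.of Ω))) ⟶ Red.bc t X) (hy : y ^ N = 1) :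
    ∃ a : Fin (2 * g) → Fin (N * N), y = AgPol.Fam.pullSec (T := Over.mk (𝟙 S)) (T' := Over.mk t) t (tp X τ a ^ N) := by
  have := hX.smooth
  have := hX.proper
  have := hX.geomConnected
  have hint : GeometricallyIntegral X.hom := K814.AbBasic.geometricallyIntegral X
  have i1 : IsProper (Red.bc t X).hom := inferInstanceAs (IsProper (pullback.snd X.hom t))
  have i2 : GeometricallyIntegral (Red.bc t X).hom := inferInstanceAs (GeometricallyIntegral (pullback.snd X.hom t))
  have i3 : IsCommMonObj (Red.bc t X) := K533.PolBC.isCommMonObj_bc t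
  obtain ⟨z, hz⟩ := K510.AVPts.exists_pow_eq (Red.bc t X) N hN y
  have h1 := K533.PolBC.isLevelStr_bc t ht
  obtain ⟨a, ha⟩ := FrameLevel.exists_tp (Nat.mul_pos hN hN) _ h1 z (by rw [pow_mul, hz, hy])
  refine ⟨a, ?_⟩
  have h2 : tp (Red.bc t X) (fun i => secBc t (τ i)) a = z := ha
  rw [K116.ChGrp.tp_bc] at h2
  rw [← hz, ← h2]
  exact (map_pow (K116.ChGrp.secBcHom (X := X) t) (tp X τ a) N).symm

include hN ht in
/-- **(C)** -/
theorem tors_C {n q N' : ℕ} (h1 : N * N = n * q) (h2 : N = n * N') (i : Fin (2 * g)) :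
    ∃ a : Fin (2 * g) → Fin (N * N), τ i ^ q = tp X τ a ^ N := by
  have hn : 0 < n := by
    rcases Nat.eq_zero_or_pos n with h | h
    · subst h
      omega
    · exact h
  have h3 : q = N' * N := by
    have h4 : n * q = n * (N' * N) := by
      rw [← h1, ← mul_assoc, ← h2]
    exact Nat.eq_of_mul_eq_mul_left hn h4
  have hNN : 0 < N * N := Nat.mul_pos hN hN
  refine ⟨fun j => if j = i then ⟨N' % (N * N), Nat.mod_lt _ hNN⟩ else ⟨0, hNN⟩, ?_⟩
  have h4 : tp X τ (fun j => if j = i then (⟨N' % (N * N), Nat.mod_lt _ hNN⟩ : Fin (N * N)) else ⟨0, hNN⟩) =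
      τ i ^ (N' % (N * N)) := by
    unfold tp
    rw [List.prod_ofFn, Finset.prod_eq_single i]
    · simp only [if_true]
    · intro j _ hj
      simp only [if_neg hj, pow_zero]
    · intro h
      exact absurd (Finset.mem_univ i) h
  have h5 : τ i ^ (N' % (N * N)) = τ i ^ N' := by
    conv_rhs => rw [← Nat.mod_add_div N' (N * N)]
    rw [pow_add, pow_mul, ht.1 i, one_pow, mul_one]
  rw [h4, h5, h3, pow_mul]

end K515.QPTors
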