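import Groth.Agent.AbVar.K515.PolFinMain
import Groth.Agent.AgPol.K117.Defs
import Groth.Agent.AgPol.K814.AbBasic
import Groth.Agent.AbSch.K450.RRChi
import Groth.Agent.S7858

/-!
# Riemann–Roch for the class of a polarisation

`B` an abelian variety over a field `k`, `c = (1, lam)^* P` the class of a polarisation of degree `d ^ 2`
(`K117.Ag.IsPolCl`).  A module `L` of class `c ^ j`, `j ≥ 1`, is ample, `h⁰(L) = (2 j) ^ g d` and
`(L ^ g) = g! (2 j) ^ g d`.
-/

set_option autoImplicit false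
universe u

open CategoryTheory CategoryTheory.Limits MonoidalCategory CartesianMonoidalCategory AlgebraicGeometry
open scoped MonObj

namespace K515.RankPol

open Groth.Agent.Grpsch.PicGrp Groth.Agent.Fga.RigGrp K732.PicZero K732.Prim K732.Dual K515.PolFinMain

variable {k : Type u} [Field k]

theorem krullDim {B : Over (Spec (CommRingCat.of k))} {g : ℕ} (hB : AgPol.IsAbSch B g) :
    topologicalKrullDim B.left = g := by
  have s : (Spec (CommRingCat.of k) : Scheme.{u}) := IsLocalRing.closedPoint k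
  have h1 : B.hom ⁻¹' {s} = Set.univ := by
    ext x
    simp only [Set.mem_preimage, Set.mem_singleton_iff, Set.mem_univ, iff_true]
    exact Subsingleton.elim _ _
  rw [← hB.fibreDim s]
  exact (IsHomeomorph.topologicalKrullDim_eq _
    (((B.hom.fiberHomeo s).trans (Homeomorph.setCongr h1)).trans (Homeomorph.Set.univ _)).isHomeomorph).symm

/-- `χ(M ^ n) = n ^ g χ(M)`. -/
theorem euler_pow (B : Over (Spec (CommRingCat.of k))) [GrpObj B] [IsProper B.hom] [GeometricallyIntegral B.hom]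
    (g : ℕ) (hg : topologicalKrullDim B.left = g) {M L : B.left.Modules} (hM : PicF.IsInvertible M)
    (hL : PicF.IsInvertible L) (n : ℕ) (h : mk L hL = mk M hM ^ n) :
    @Curv2.euler k _ B.left ⟨B.hom⟩ L = (n : ℤ) ^ g * @Curv2.euler k _ B.left ⟨B.hom⟩ M := by
  have h1 := K450.RRChi.chi_pow k B g hg M hM n
  rw [← mk_tensorPow hM n] at h
  rw [← Groth.Agent.Fga.PicMon.mc_tensorPow,
    ← Groth.Agent.Fga.PicMon.mc_eq ((mk_eq_iff hL (Groth.Agent.Fdesc.LocGen.isInvertible_tensorPow hM n)).mp h).some,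
    K450.RRChi.chi_mc k B g hg, K450.RRChi.chi_mc k B g hg] at h1
  exact h1

/-- `h⁰(M ^ n) = n ^ g h⁰(M)` for `M` ample. -/
theorem finrank_pow (B : Over (Spec (CommRingCat.of k))) [GrpObj B] [IsProper B.hom] [GeometricallyIntegral B.hom]
    (g : ℕ) (hg : topologicalKrullDim B.left = g) {M L : B.left.Modules} (hM : CohB1.IsAmple M)
    (hL : PicF.IsInvertible L) (n : ℕ) (hn : 1 ≤ n) (h : mk L hL = mk M hM.1 ^ n) :
    CohB1.IsAmple L ∧
      (@Module.finrank k (Coh.HH B.left L 0) _ _ (@Coh.moduleOver k _ B.left ⟨B.hom⟩ L 0)) =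
        n ^ g * (@Module.finrank k (Coh.HH B.left M 0) _ _ (@Coh.moduleOver k _ B.left ⟨B.hom⟩ M 0)) := by
  have h0 := h
  rw [← mk_tensorPow hM.1 n] at h0
  have e := ((mk_eq_iff hL (Groth.Agent.Fdesc.LocGen.isInvertible_tensorPow hM.1 n)).mp h0).some
  have hLa : CohB1.IsAmple L :=
    Groth.Agent.CohqB.AmpCocycle.isAmple_of_iso e.symm (Groth.Agent.Divis.NormAmple.isAmple_tensorPow hM hn)
  refine ⟨hLa, ?_⟩
  have h1 := euler_pow B g hg hM.1 hL n h
  rw [euler_eq B L hLa, euler_eq B M hM] at h1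
  exact_mod_cast h1

/-- A module `M` with class `(1, lam)^* P` is ample and symmetric, `h⁰(M) = 2 ^ g d`. -/
theorem rank_one (h14161 : Stmt14161.{u}) (B : Over (Spec (CommRingCat.of k))) [GrpObj B]
    (g d : ℕ) (hB : AgPol.IsAbSch B g) {c : Pic B.left} (hc : K117.Ag.IsPolCl B d c)
    (M : B.left.Modules) (hM : PicF.IsInvertible M) (hMc : mk M hM = c) :
    CohB1.IsAmple M ∧ Nonempty ((Scheme.Modules.pullback ((𝟙 B)⁻¹).left).obj M ≅ M) ∧
      (@Module.finrank k (Coh.HH B.left M 0) _ _ (@Coh.moduleOver k _ B.left ⟨B.hom⟩ M 0)) = 2 ^ g * d := by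
  have hg := krullDim hB
  have i1 := hB.smooth
  have i2 := hB.proper
  have i3 := hB.geomConnected
  have i4 : GeometricallyIntegral B.hom := K814.AbBasic.geometricallyIntegral B
  have i5 : IsCommMonObj B := K814.AbBasic.isCommMonObj B
  obtain ⟨Bt, _, _, φ, ξ, lam, hD, h1, h2, h3, hpol, hdeg, rfl⟩ := hc
  have := hpol.1
  have hMa := PolFin.ample_M hD h1 h2 h3 hpol M hM hMc
  refine ⟨hMa, ?_, ?_⟩
  · have h4 := PolFin.symm_M hD h1 h2 h3 (lam := lam)
    rw [← hMc] at h4
    rw [Groth.Agent.Grpsch.Cube.pl, pull_mk _ hM] at h4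
    exact (mk_eq_iff _ _).mp h4
  · let _ : B.left.Over (Spec (CommRingCat.of k)) := ⟨B.hom⟩
    have hpr : IsProper (B.left ↘ Spec (CommRingCat.of k)) := inferInstanceAs (IsProper B.hom)
    have hcoh : Coh.IsCoh M := Groth.Agent.VarietyA.CurveFin.isCoh_of_isInvertible hM
    have hfin : Module.Finite k (Coh.HH B.left M 0) := Groth.Agent.S0002.result k B.left M hcoh 0
    set r := Module.finrank k (Coh.HH B.left M 0) with hr
    have h5 := h14161 (Spec (CommRingCat.of k)) B Bt g hB (isProjective B M hMa) φ hD M hM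
      (isRelAmple B M hMa) (lam * lam) (K814.Graph.isLambda hD h1 h2 h3 hpol M hM hMc) r
      (PushRank.isFinLocFreeOfRank_push B.hom M hcoh.1 r hfin rfl)
    have h6 : r ^ 2 = (2 ^ g * d) ^ 2 := by
      have h7 := h5.2.2.2 (η[Bt].left (IsLocalRing.closedPoint k))
      rw [finrank_sq g hg lam d hdeg] at h7
      rw [← h7, mul_pow, ← pow_mul, mul_comm g 2]
    exact (Nat.pow_left_injective (n := 2) (by norm_num)) h6

/-- A module `L` with class `c ^ j`, `c` the class of a polarisation, is ample and `h⁰(L) = (2 j) ^ g d`. -/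
theorem rank (h14161 : Stmt14161.{u}) (B : Over (Spec (CommRingCat.of k))) [GrpObj B]
    (g d : ℕ) (hB : AgPol.IsAbSch B g) {c : Pic B.left} (hc : K117.Ag.IsPolCl B d c) (j : ℕ) (hj : 1 ≤ j)
    (L : B.left.Modules) (hL : PicF.IsInvertible L) (hLc : mk L hL = c ^ j) :
    CohB1.IsAmple L ∧
      (@Module.finrank k (Coh.HH B.left L 0) _ _ (@Coh.moduleOver k _ B.left ⟨B.hom⟩ L 0)) = (2 * j) ^ g * d := by
  have hg := krullDim hB
  have i1 := hB.smooth
  have i2 := hB.proper
  have i3 := hB.geomConnected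
  have i4 : GeometricallyIntegral B.hom := K814.AbBasic.geometricallyIntegral B
  obtain ⟨M, hM, hMc⟩ := exists_mk c
  obtain ⟨h1, -, h2⟩ := rank_one h14161 B g d hB hc M hM hMc.symm
  obtain ⟨h3, h4⟩ := finrank_pow B g hg h1 hL j hj (by rw [hLc, ← hMc])
  refine ⟨h3, ?_⟩
  rw [h4, h2, mul_pow]
  ring

/-- `h⁰(L) = χ(L)` and `g! h⁰(L) = (L ^ g)`: the self-intersection number of an ample module. -/
theorem intNum_eq (B : Over (Spec (CommRingCat.of k))) [GrpObj B]
    (g : ℕ) (hB : AgPol.IsAbSch B g) {L L' : B.left.Modules} (hL : CohB1.IsAmple L)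
    (hL' : Nonempty (CohB1.tensorMod L L' ≅ Coh.structureModule B.left)) :
    @FGA.intNum k _ B.left ⟨B.hom⟩ g g (fun _ : Fin g => L') (Coh.structureModule B.left) =
      (((Nat.factorial g) * @Module.finrank k (Coh.HH B.left L 0) _ _ (@Coh.moduleOver k _ B.left ⟨B.hom⟩ L 0) : ℕ) : ℤ) := by
  have hg := krullDim hB
  have i1 := hB.smooth
  have i2 := hB.proper
  have i3 := hB.geomConnected
  have i4 : GeometricallyIntegral B.hom := K814.AbBasic.geometricallyIntegral B
  rw [← Groth.Agent.S7858.result k B g hg L L' hL.1 hL', euler_eq B L hL]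
  push_cast
  rfl

end K515.RankPol
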