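import Groth.Agent.AgPol.K515.FrameGeom
import Groth.Agent.AgPol.K515.FrameLevel
import Groth.Agent.AgPol.K515.RankPol
import Groth.Agent.AgPol.K117.Nodes
import Groth.Agent.Ega1.GlobGenPt

/-!
# Frames of torsion points (node FRAME of the construction of `A_g`)

`main` : over an algebraically closed field every admissible core family has a frame, when `m + 1 = 6 ^ g d` and
`(6 ^ g d) ^ 2 g! < n ^ 2`.
-/

set_option autoImplicit false
universe u

open CategoryTheory Limits MonoidalCategory CartesianMonoidalCategory AlgebraicGeometry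
open scoped MonObj

namespace K515.Frame

open K390.PnSec Groth.Agent.Fdesc.LocGen Groth.Agent.Grpsch.PicGrp K515.PolFinMain K515.FrameGeom K515.FrameLevel

/-- The section form of S14168. -/
def VanStmt : Prop := ∀ (Ω : Type u) [Field Ω] [IsAlgClosed Ω] (A : Over (Spec (CommRingCat.of Ω))) [GrpObj A]
    [IsCommMonObj A] (g N : ℕ), 1 ≤ g → AgPol.IsAbSch A g → 1 ≤ N → ∀ (M L : A.left.Modules),
      CohB1.IsAmple M → Nonempty (L ≅ CohB1.tensorPow M 3) → ∀ s : Γ(L, ⊤), s ≠ 0 →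
      Nat.card {x : 𝟙_ (Over (Spec (CommRingCat.of Ω))) ⟶ A // x ^ N = 1 ∧ pullTop x.left s = 0} ≤
        N ^ (2 * (g - 1)) * (g.factorial *
          @Module.finrank Ω (Coh.HH A.left L 0) _ _ (@Coh.moduleOver Ω _ A.left ⟨A.hom⟩ L 0))

/-- The cube of an ample module is generated by global sections. -/
def GGStmt : Prop := ∀ (Ω : Type u) [Field Ω] [IsAlgClosed Ω] (A : Over (Spec (CommRingCat.of Ω))) [GrpObj A]
    [IsCommMonObj A] (g : ℕ), AgPol.IsAbSch A g → ∀ (M L : A.left.Modules),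
      CohB1.IsAmple M → Nonempty (L ≅ CohB1.tensorPow M 3) → Curv2.IsGloballyGenerated L

section basis

variable {k : Type u} [Field k] {X : Scheme.{u}} (q : X ⟶ Spec (CommRingCat.of k))

theorem exists_basis_sec (M : X.Modules) (r : ℕ)
    (hfin : @Module.Finite k (Coh.HH X M 0) _ _ (@Coh.moduleOver k _ X ⟨q⟩ M 0))
    (hr : @Module.finrank k (Coh.HH X M 0) _ _ (@Coh.moduleOver k _ X ⟨q⟩ M 0) = r) :
    ∃ s : Fin r → Γ(M, ⊤), (∀ σ : Γ(M, ⊤), ∃ c : Fin r → k, σ = ∑ i, cst q (c i) • s i) ∧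
      ∀ c : Fin r → k, ∑ i, cst q (c i) • s i = 0 → c = 0 := by
  let _ : X.Over (Spec (CommRingCat.of k)) := ⟨q⟩
  have : Module.Finite k (Coh.HH X M 0) := hfin
  have hr' : Module.finrank k (Coh.HH X M 0) = r := hr
  let b := Module.finBasisOfFinrankEq k (Coh.HH X M 0) hr'
  let e : Coh.HH X M 0 ≃+ Γ(M, ⊤) := Groth.Agent.CurvesB.HZero.equivAdd M
  have he : ∀ (t : k) (x : Coh.HH X M 0), e (t • x) = cst q t • e x := by
    intro t x
    exact Groth.Agent.CurvesB.HZero.equivAdd_smul_over M t x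
  have hsum : ∀ c : Fin r → k, e (∑ i, c i • b i) = ∑ i, cst q (c i) • e (b i) := fun c => by
    rw [map_sum]
    exact Finset.sum_congr rfl fun i _ => he _ _
  refine ⟨fun i => e (b i), fun σ => ⟨b.repr (e.symm σ), ?_⟩, fun c hc => ?_⟩
  · rw [← hsum, b.sum_repr, AddEquiv.apply_symm_apply]
  · rw [← hsum, map_eq_zero_iff e e.injective] at hc
    have h1 := b.repr_sum_self c
    rw [hc, map_zero] at h1
    exact h1.symm

theorem iSup_genLocus_of_basis {M : X.Modules} (hM : PicF.IsInvertible M) (hgg : Curv2.IsGloballyGenerated M)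
    {r : ℕ} {s : Fin r → Γ(M, ⊤)} (hs : ∀ σ : Γ(M, ⊤), ∃ c : Fin r → k, σ = ∑ i, cst q (c i) • s i) :
    ⨆ i, CohB1.genLocus M (homOf (s i)) = ⊤ := by
  rw [eq_top_iff]
  intro y _
  obtain ⟨τ, hτ⟩ := Groth.Agent.Ega1.GlobGenPt.exists_mem_genLocus hM hgg y
  obtain ⟨c, hc⟩ := hs (sec τ ⊤)
  refine mem_iSup_genLocus_of_comb hM (fun i => cst q (c i)) hc ?_
  rw [homOf_sec]
  exact hτ

end basis

variable {Ω : Type u} [Field Ω] [IsAlgClosed Ω]

/-- Frames of torsion points. -/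
theorem exists_frame (h14161 : Stmt14161.{u}) (hVan : VanStmt.{u}) (hGG : GGStmt.{u})
    {g d n m : ℕ} (hg : 1 ≤ g) (hm : m + 1 = 6 ^ g * d) (hn : (6 ^ g * d) ^ 2 * g.factorial < n ^ 2)
    (X : Over (Spec (CommRingCat.of Ω))) [GrpObj X] [IsCommMonObj X] (hX : AgPol.IsAbSch X g) (c : Pic X.left)
    (hc : K117.Ag.IsPolCl X d c) (σ : Fin (2 * g) → (𝟙_ (Over (Spec (CommRingCat.of Ω))) ⟶ X))
    (hσ : AgPol.IsLevelStr X g n σ) :
    ∃ (I : Fin (m + 2) → (Fin (2 * g) → Fin n)) (r : X.left ⟶ K117.Ag.PZ.{u} m), K117.Ag.NormEmb X c σ I r := by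
  have hn1 : 1 ≤ n := by
    rcases Nat.eq_zero_or_pos n with rfl | h
    · exact absurd hn (by simp)
    · exact h
  obtain ⟨M, hM, hMc⟩ := exists_mk c
  obtain ⟨hMa, -, -⟩ := K515.RankPol.rank_one h14161 X g d hX hc M hM hMc.symm
  let L := CohB1.tensorPow M 3
  have hL : PicF.IsInvertible L := isInvertible_tensorPow hM 3
  have hLc : mk L hL = c ^ 3 := by rw [hMc]; exact mk_tensorPow hM 3
  obtain ⟨hLa, hrk⟩ := K515.RankPol.rank h14161 X g d hX hc 3 (by norm_num) L hL hLc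
  have hrk' : @Module.finrank Ω (Coh.HH X.left L 0) _ _ (@Coh.moduleOver Ω _ X.left ⟨X.hom⟩ L 0) = m + 1 := by
    rw [hrk, hm]
  have := hX.proper
  have hfin : @Module.Finite Ω (Coh.HH X.left L 0) _ _ (@Coh.moduleOver Ω _ X.left ⟨X.hom⟩ L 0) := by
    let _ : X.left.Over (Spec (CommRingCat.of Ω)) := ⟨X.hom⟩
    have hpr : IsProper (X.left ↘ Spec (CommRingCat.of Ω)) := inferInstanceAs (IsProper X.hom)
    exact Groth.Agent.S0002.result Ω X.left L (Groth.Agent.VarietyA.CurveFin.isCoh_of_isInvertible hL) 0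
  obtain ⟨s, hs1, hs2⟩ := exists_basis_sec X.hom L (m + 1) hfin hrk'
  have hs := iSup_genLocus_of_basis X.hom hL (hGG Ω X g hX M L hMa ⟨Iso.refl _⟩) hs1
  have hcard := card_tors σ hσ
  have : Finite {x : 𝟙_ (Over (Spec (CommRingCat.of Ω))) ⟶ X // x ^ n = 1} :=
    Nat.finite_of_card_ne_zero (by rw [hcard]; positivity)
  obtain ⟨I, r, t, hr, hI⟩ := exists_frame_map X.hom hL hs
    (fun x : {x : 𝟙_ (Over (Spec (CommRingCat.of Ω))) ⟶ X // x ^ n = 1} => x.1.left) (fun x => Over.w x.1)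
    (fun a ha => by
      have h1 : ∑ i, cst X.hom (a i) • s i ≠ 0 := fun h0 => ha (hs2 a h0)
      have h2 := hVan Ω X g n hg hX hn1 M L hMa ⟨Iso.refl _⟩ _ h1
      rw [hrk'] at h2
      rw [hcard]
      have h3 : Nat.card {x : {x : 𝟙_ (Over (Spec (CommRingCat.of Ω))) ⟶ X // x ^ n = 1} //
          pullTop x.1.left (∑ i, cst X.hom (a i) • s i) = 0} =
          Nat.card {x : 𝟙_ (Over (Spec (CommRingCat.of Ω))) ⟶ X // x ^ n = 1 ∧
            pullTop x.left (∑ i, cst X.hom (a i) • s i) = 0} :=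
        Nat.card_congr (Equiv.subtypeSubtypeEquivSubtypeInter
          (fun x : 𝟙_ (Over (Spec (CommRingCat.of Ω))) ⟶ X => x ^ n = 1)
          (fun x => pullTop x.left (∑ i, cst X.hom (a i) • s i) = 0))
      rw [h3]
      obtain ⟨g', rfl⟩ : ∃ g', g = g' + 1 := ⟨g - 1, by omega⟩
      calc (m + 1) * Nat.card {x : 𝟙_ (Over (Spec (CommRingCat.of Ω))) ⟶ X // x ^ n = 1 ∧
            pullTop x.left (∑ i, cst X.hom (a i) • s i) = 0}
          ≤ (m + 1) * (n ^ (2 * (g' + 1 - 1)) * ((g' + 1).factorial * (m + 1))) := Nat.mul_le_mul_left _ h2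
        _ = n ^ (2 * g') * ((6 ^ (g' + 1) * d) ^ 2 * (g' + 1).factorial) := by
          rw [← hm, Nat.add_sub_cancel]; ring
        _ < n ^ (2 * g') * n ^ 2 := Nat.mul_lt_mul_of_pos_left hn (by positivity)
        _ = n ^ (2 * (g' + 1)) := by ring)
  choose a ha using fun j => exists_tp hn1 σ hσ (I j).1 (I j).2
  refine ⟨a, r, ⟨1, ?_⟩, fun j => ?_⟩
  · obtain ⟨τ, -⟩ := hr
    rw [map_one, mul_one, ← hLc, K117.Ag.o1, pull_mk]
    exact (mk_eq_iff _ _).mpr ⟨τ⟩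
  · rw [ha]
    exact hI j

theorem main (h14161 : Stmt14161.{u}) (hVan : VanStmt.{u}) (hGG : GGStmt.{u})
    {g d n m : ℕ} (hg : 1 ≤ g) (hm : m + 1 = 6 ^ g * d) (hn : (6 ^ g * d) ^ 2 * g.factorial < n ^ 2) :
    K117.Ag.Node.Frame.{u} g d n m := by
  intro S Ω _ _ t x hx
  obtain ⟨I, r, hr⟩ := @exists_frame Ω _ _ h14161 hVan hGG g d n m hg hm hn x.X x.grp hx.comm hx.ab x.c hx.pol x.σ
    hx.level
  exact ⟨I, r, hr⟩

end K515.Frame
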