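import Mathlib.LinearAlgebra.Basis.VectorSpace
import Mathlib.LinearAlgebra.Matrix.ToLin
import Mathlib.LinearAlgebra.Dual.Lemmas
import Mathlib.LinearAlgebra.FiniteDimensional.Lemmas
import Mathlib.SetTheory.Cardinal.Finite

/-!
# Frames in a finite set of vectors in general position

If every hyperplane of `K ^ (m + 1)` contains fewer than `#T / (m + 1)` of the vectors `v x`, `x ∈ T`, then `m + 2` of
them are, after a linear change of coordinates, multiples of the basis vectors and of their sum.
-/

set_option autoImplicit false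

namespace K515.FrameAlg

variable {K : Type*} [Field K] {m : ℕ} {T : Type*} (v : T → Fin (m + 1) → K)

/-- A linear form on `K ^ n` is given by its coordinates. -/
theorem apply_eq_sum {n : ℕ} (f : (Fin n → K) →ₗ[K] K) (w : Fin n → K) :
    f w = ∑ i, f (Pi.single i 1) * w i := by
  conv_lhs => rw [pi_eq_sum_univ' w]
  rw [map_sum]
  refine Finset.sum_congr rfl fun i _ => ?_
  rw [map_smul, smul_eq_mul, mul_comm]

/-- The vectors span. -/
theorem span_eq_top
    (h : ∀ c : Fin (m + 1) → K, c ≠ 0 → (m + 1) * Nat.card {x : T // ∑ i, c i * v x i = 0} < Nat.card T) :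
    Submodule.span K (Set.range v) = ⊤ := by
  by_contra hne
  obtain ⟨f, hf, hf'⟩ := Submodule.exists_le_ker_of_lt_top _ (lt_top_iff_ne_top.mpr hne)
  have h1 : (fun i => f (Pi.single i 1)) ≠ 0 := by
    intro h0
    apply hf
    ext w
    rw [LinearMap.comp_apply, LinearMap.comp_apply]
    exact congrFun h0 w
  have h2 := h _ h1
  have h3 : Nat.card {x : T // ∑ i, f (Pi.single i 1) * v x i = 0} = Nat.card T := by
    refine Nat.card_congr (Equiv.subtypeUnivEquiv fun x => ?_)
    rw [← apply_eq_sum]
    exact hf' (Submodule.subset_span ⟨x, rfl⟩)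
  rw [h3] at h2
  nlinarith [Nat.zero_le (Nat.card T)]

/-- Some of the vectors form a basis. -/
theorem exists_basis (h : Submodule.span K (Set.range v) = ⊤) :
    ∃ (B : Module.Basis (Fin (m + 1)) K (Fin (m + 1) → K)) (x : Fin (m + 1) → T), ∀ j, B j = v (x j) := by
  obtain ⟨b, hb, hs, hl⟩ := exists_linearIndependent K (Set.range v)
  let B₀ : Module.Basis b K (Fin (m + 1) → K) := Module.Basis.mk hl (by
    rw [Subtype.range_coe_subtype, Set.ofPred_mem_eq, hs, h])
  have : Fintype b := FiniteDimensional.fintypeBasisIndex B₀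
  have hc : Fintype.card b = m + 1 := by
    rw [← Module.finrank_eq_card_basis B₀, Module.finrank_fin_fun]
  let B := B₀.reindex (Fintype.equivFinOfCardEq hc)
  have hx : ∀ j, ∃ x : T, v x = B j := fun j => by
    obtain ⟨x, hx⟩ := hb ((Fintype.equivFinOfCardEq hc).symm j).2
    exact ⟨x, by simp [B, B₀, hx]⟩
  choose x hx using hx
  exact ⟨B, x, fun j => (hx j).symm⟩

/-- One more vector off the coordinate hyperplanes of a basis. -/
theorem exists_off [Finite T] (B : Module.Basis (Fin (m + 1)) K (Fin (m + 1) → K))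
    (h : ∀ c : Fin (m + 1) → K, c ≠ 0 → (m + 1) * Nat.card {x : T // ∑ i, c i * v x i = 0} < Nat.card T) :
    ∃ y : T, ∀ i, B.coord i (v y) ≠ 0 := by
  classical
  have : Fintype T := Fintype.ofFinite T
  by_contra hne
  push Not at hne
  have h1 : ∀ i, (m + 1) * (Finset.univ.filter fun x : T => B.coord i (v x) = 0).card < Fintype.card T := by
    intro i
    have hi : (fun j => B.coord i (Pi.single j 1)) ≠ 0 := by
      intro h0
      have h2 : B.coord i (B i) = 0 := by
        rw [apply_eq_sum]
        exact Finset.sum_eq_zero fun j _ => by rw [congrFun h0 j]; simp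
      rw [B.coord_apply, B.repr_self, Finsupp.single_eq_same] at h2
      exact one_ne_zero h2
    have h3 := h _ hi
    rw [Nat.card_eq_fintype_card (α := T)] at h3
    refine lt_of_eq_of_lt ?_ h3
    rw [Nat.card_eq_fintype_card, Fintype.card_subtype]
    congr 3
    ext x
    rw [← apply_eq_sum]
  have h2 : (Finset.univ : Finset T) ⊆
      Finset.univ.biUnion fun i : Fin (m + 1) => Finset.univ.filter fun x : T => B.coord i (v x) = 0 := by
    intro x _
    obtain ⟨i, hi⟩ := hne x
    simp only [Finset.mem_biUnion, Finset.mem_univ, true_and, Finset.mem_filter]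
    exact ⟨i, hi⟩
  have h3 := (Finset.card_le_card h2).trans Finset.card_biUnion_le
  have h4 : (m + 1) * Fintype.card T < (m + 1) * Fintype.card T := by
    calc (m + 1) * Fintype.card T
        ≤ (m + 1) * ∑ i : Fin (m + 1), (Finset.univ.filter fun x : T => B.coord i (v x) = 0).card :=
          Nat.mul_le_mul_left _ h3
      _ = ∑ i : Fin (m + 1), (m + 1) * (Finset.univ.filter fun x : T => B.coord i (v x) = 0).card := by
          rw [Finset.mul_sum]
      _ < ∑ i : Fin (m + 1), Fintype.card T :=
          Finset.sum_lt_sum_of_nonempty Finset.univ_nonempty fun i _ => h1 i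
      _ = (m + 1) * Fintype.card T := by simp
  exact lt_irrefl _ h4

/-- The standard frame. -/
def stdv (R : Type*) [CommRing R] (m : ℕ) (k : Fin (m + 2)) : Fin (m + 1) → R :=
  if h : (k : ℕ) < m + 1 then Pi.single ⟨k, h⟩ 1 else fun _ => 1

theorem exists_frame [Finite T]
    (h : ∀ c : Fin (m + 1) → K, c ≠ 0 → (m + 1) * Nat.card {x : T // ∑ i, c i * v x i = 0} < Nat.card T) :
    ∃ (I : Fin (m + 2) → T) (b b' : Matrix (Fin (m + 1)) (Fin (m + 1)) K) (μ : Fin (m + 2) → K),
      b' * b = 1 ∧ (∀ k, μ k ≠ 0) ∧ ∀ k i, ∑ j, b i j * v (I k) j = μ k * stdv K m k i := by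
  obtain ⟨B, x, hB⟩ := exists_basis v (span_eq_top v h)
  obtain ⟨y, hy⟩ := exists_off v B h
  let a : Fin (m + 1) → K := fun i => B.coord i (v y)
  let b : Matrix (Fin (m + 1)) (Fin (m + 1)) K := fun i j => (a i)⁻¹ * B.coord i (Pi.single j 1)
  let b' : Matrix (Fin (m + 1)) (Fin (m + 1)) K := fun i j => a j * B j i
  have hb : ∀ w i, ∑ j, b i j * w j = (a i)⁻¹ * B.coord i w := fun w i => by
    rw [apply_eq_sum (B.coord i) w, Finset.mul_sum]
    exact Finset.sum_congr rfl fun j _ => mul_assoc _ _ _
  refine ⟨fun k => if hk : (k : ℕ) < m + 1 then x ⟨k, hk⟩ else y, b, b',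
    fun k => if hk : (k : ℕ) < m + 1 then (a ⟨k, hk⟩)⁻¹ else 1, ?_, fun k => ?_, fun k i => ?_⟩
  · rw [mul_eq_one_comm]
    ext i j
    rw [Matrix.mul_apply]
    have h1 := hb (fun l => b' l j) i
    rw [h1]
    have h2 : (fun l => b' l j) = a j • B j := rfl
    rw [h2, map_smul, smul_eq_mul, B.coord_apply, B.repr_self, Matrix.one_apply]
    by_cases hij : i = j
    · subst hij
      rw [Finsupp.single_eq_same, if_pos rfl, mul_one, inv_mul_cancel₀ (hy i)]
    · rw [Finsupp.single_eq_of_ne hij, if_neg hij, mul_zero, mul_zero]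
  · by_cases hk : (k : ℕ) < m + 1
    · simp only [hk, dif_pos]
      exact inv_ne_zero (hy _)
    · simp only [hk, dif_neg, not_false_iff]
      exact one_ne_zero
  · rw [hb]
    by_cases hk : (k : ℕ) < m + 1
    · simp only [hk, dif_pos, stdv]
      rw [← hB, B.coord_apply, B.repr_self]
      by_cases hki : (⟨k, hk⟩ : Fin (m + 1)) = i
      · subst hki
        simp
      · rw [Finsupp.single_eq_of_ne (Ne.symm hki), Pi.single_eq_of_ne (Ne.symm hki), mul_zero, mul_zero]
    · simp only [hk, dif_neg, not_false_iff, stdv, mul_one]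
      exact inv_mul_cancel₀ (hy i)

end K515.FrameAlg
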